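import Groth.Agent.S0418
import Groth.Agent.S0415
import Mathlib.AlgebraicGeometry.Morphisms.UniversallyInjective
import Mathlib.AlgebraicGeometry.Morphisms.Proper
import Mathlib.AlgebraicGeometry.Morphisms.Integral

/-!
# Functions with nilpotent difference on the fibre square are p-power descendible
-/

set_option autoImplicit false
set_option linter.style.haveILetI false
set_option linter.unusedSectionVars false
set_option backward.isDefEq.respectTransparency.types false

universe u

open CategoryTheory CategoryTheory.Limits AlgebraicGeometry TensorProduct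

namespace Groth.L23.Frob

/-- An integral extension generated by an element whose two images in the tensor square differ by a nilpotent
is a universal homeomorphism, so p-powers descend in characteristic p. -/
theorem exists_pow_mem_range {A B : Type u} [CommRing A] [CommRing B] [Algebra A B] (p : ℕ) (hp : p.Prime)
    (hpA : (p : A) = 0) (b : B) (hgen : Algebra.adjoin A {b} = ⊤) (hint : Algebra.IsIntegral A B)
    (hsurj : Function.Surjective (PrimeSpectrum.comap (algebraMap A B)))
    (hnil : IsNilpotent (b ⊗ₜ[A] (1 : B) - (1 : B) ⊗ₜ[A] b)) :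
    ∃ n : ℕ, b ^ (p ^ n) ∈ (algebraMap A B).range := by
  let i₁ : B →ₐ[A] B ⊗[A] B := Algebra.TensorProduct.includeLeft
  let i₂ : B →ₐ[A] B ⊗[A] B := Algebra.TensorProduct.includeRight
  let q := Ideal.Quotient.mkₐ A (nilradical (B ⊗[A] B))
  have heq : q.comp i₁ = q.comp i₂ := AlgHom.ext_of_adjoin_eq_top hgen fun x hx => by
    rw [Set.mem_singleton_iff] at hx
    subst hx
    exact (Ideal.Quotient.eq (I := nilradical (B ⊗[A] B))).mpr hnil
  let mul : CommRingCat.of (B ⊗[A] B) ⟶ CommRingCat.of B :=
    CommRingCat.ofHom (Algebra.TensorProduct.lmul' A (S := B)).toRingHom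
  have hker : ∀ z : B ⊗[A] B, IsNilpotent (z - i₁ (Algebra.TensorProduct.lmul' A (S := B) z)) := by
    intro z
    refine (Ideal.Quotient.eq (I := nilradical (B ⊗[A] B))).mp ?_
    show q z = (q.comp i₁) _
    induction z using TensorProduct.induction_on with
    | zero => simp
    | add x y hx hy => simp only [map_add] at hx hy ⊢; rw [hx, hy]
    | tmul x y =>
      rw [Algebra.TensorProduct.lmul'_apply_tmul, map_mul]
      conv_rhs => rw [show (q.comp i₁) y = (q.comp i₂) y from AlgHom.congr_fun heq y]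
      show _ = q (i₁ x) * q (i₂ y)
      rw [← map_mul]
      simp [i₁, i₂]
  let φ := CommRingCat.ofHom (algebraMap A B)
  have hUI : UniversallyInjective (Spec.map φ) := by
    rw [UniversallyInjective.iff_diagonal, diagonal_SpecMap]
    haveI : Surjective (Spec.map mul) := by
      refine ⟨fun z => ?_⟩
      have hz : z ∈ Set.range (PrimeSpectrum.comap mul.hom) := by
        refine (PrimeSpectrum.mem_range_comap_iff mul.hom (p := z)).mpr ?_
        refine le_antisymm (fun x hx => ?_) Ideal.le_comap_map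
        obtain ⟨y, hy, hxy⟩ := (Ideal.mem_map_iff_of_surjective mul.hom fun x => ⟨i₁ x, by simp [mul, i₁]⟩).mp hx
        have h1 : x - y ∈ nilradical (B ⊗[A] B) := by
          have h2 := hker (x - y)
          have h3 : Algebra.TensorProduct.lmul' A (S := B) (x - y) = 0 := by
            rw [map_sub]; exact sub_eq_zero.mpr hxy.symm
          rwa [h3, map_zero, sub_zero] at h2
        have := nilradical_le_prime z.asIdeal h1
        simpa using z.asIdeal.add_mem this hy
      exact hz
    infer_instance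
  haveI : Surjective (Spec.map φ) := ⟨hsurj⟩
  have hI : IsIntegralHom (Spec.map φ) := (IsIntegralHom.SpecMap_iff).mpr (fun x => hint.isIntegral x)
  have hUH := (Groth.Agent.S0415.result (Spec.map φ)).mpr ⟨hI, hUI, inferInstance⟩
  have haway : Function.Bijective (Localization.awayMap (algebraMap A B) (p : A)) := by
    haveI : Subsingleton (Localization.Away (p : A)) :=
      IsLocalization.subsingleton (M := Submonoid.powers (p : A)) (by rw [hpA]; exact Submonoid.mem_powers _)
    haveI : Subsingleton (Localization.Away (algebraMap A B (p : A))) :=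
      IsLocalization.subsingleton (M := Submonoid.powers (algebraMap A B (p : A)))
        (by rw [hpA, map_zero]; exact Submonoid.mem_powers _)
    exact ⟨fun x y _ => Subsingleton.elim x y, fun y => ⟨0, Subsingleton.elim _ _⟩⟩
  obtain ⟨-, h⟩ := (Groth.Agent.S0418.result (algebraMap A B) p hp haway).mp hUH
  obtain ⟨n, -, hn⟩ := h b
  exact ⟨n, hn⟩

theorem isNilpotent_of_appTop {V : Scheme.{u}} [CompactSpace V] {R : CommRingCat.{u}} (M : V ⟶ Spec R)
    [Surjective M] (x : R) (hx : IsNilpotent (M.appTop ((Scheme.ΓSpecIso R).inv x))) : IsNilpotent x := by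
  rw [nilpotent_iff_mem_prime]
  intro P hP
  by_contra hxP
  obtain ⟨y, hy⟩ := M.surjective ⟨P, hP⟩
  have h1 : M y ∈ PrimeSpectrum.basicOpen x := by rw [hy]; exact hxP
  rw [← AlgebraicGeometry.basicOpen_eq_of_affine x] at h1
  have h2 : y ∈ M ⁻¹ᵁ (Spec R).basicOpen ((Scheme.ΓSpecIso R).inv x) := h1
  rw [Scheme.preimage_basicOpen_top] at h2
  rw [(Scheme.isNilpotent_iff_basicOpen_eq_bot _).mp hx] at h2
  exact h2

theorem appTop_toSpecΓ_map {V : Scheme.{u}} {R : CommRingCat.{u}} (α : R ⟶ Γ(V, ⊤)) :
    (Scheme.ΓSpecIso R).inv ≫ (V.toSpecΓ ≫ Spec.map α).appTop = α := by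
  simp only [Scheme.Hom.comp_appTop, Scheme.toSpecΓ_appTop]
  rw [← Category.assoc, ← Scheme.ΓSpecIso_inv_naturality, Category.assoc, Iso.inv_hom_id, Category.comp_id]

theorem appTop_of_comp_eq {V P : Scheme.{u}} {R C : CommRingCat.{u}} (α : R ⟶ Γ(V, ⊤)) (M : P ⟶ Spec C) (ι : R ⟶ C)
    (π : P ⟶ V) (h : M ≫ Spec.map ι = π ≫ V.toSpecΓ ≫ Spec.map α) :
    ι ≫ (Scheme.ΓSpecIso C).inv ≫ M.appTop = α ≫ π.appTop := by
  rw [← appTop_toSpecΓ_map α, Category.assoc, ← Scheme.Hom.comp_appTop, ← h, Scheme.Hom.comp_appTop,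
    ← Category.assoc, Scheme.ΓSpecIso_inv_naturality, Category.assoc]

theorem isNilpotent_of_forall_notMem {V : Scheme.{u}} [CompactSpace V] {R : CommRingCat.{u}} (M : V ⟶ Spec R)
    (x : R) (h : ∀ y, M y ∉ PrimeSpectrum.basicOpen x) :
    IsNilpotent (M.appTop ((Scheme.ΓSpecIso R).inv x)) := by
  rw [Scheme.isNilpotent_iff_basicOpen_eq_bot]
  refine le_bot_iff.mp fun y hy => (h y ?_).elim
  rw [← Scheme.preimage_basicOpen_top] at hy
  rw [← AlgebraicGeometry.basicOpen_eq_of_affine x]
  exact hy

/-- On a universally closed quasi-compact surjective scheme over an affine one, a function whose two pullbacks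
to the fibre square differ by a nilpotent has a p-power coming from the base. -/
theorem exists_pow_mem_range_appTop {V U : Scheme.{u}} (f : V ⟶ U) [IsAffine U] [UniversallyClosed f]
    [IsSeparated f] [Surjective f] (p : ℕ) (hp : p.Prime) (hpU : (p : Γ(U, ⊤)) = 0) (b : Γ(V, ⊤))
    (hb : IsNilpotent ((pullback.fst f f).appTop b - (pullback.snd f f).appTop b)) :
    ∃ (n : ℕ) (a : Γ(U, ⊤)), f.appTop a = b ^ (p ^ n) := by
  letI : Algebra Γ(U, ⊤) Γ(V, ⊤) := f.appTop.hom.toAlgebra
  let B := Algebra.adjoin Γ(U, ⊤) {b}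
  have hint : Algebra.IsIntegral Γ(U, ⊤) B := by
    haveI : Algebra.IsIntegral Γ(U, ⊤) Γ(V, ⊤) := ⟨isIntegral_appTop_of_universallyClosed f⟩
    exact ⟨fun x => (isIntegral_algHom_iff B.val Subtype.val_injective).mp (Algebra.IsIntegral.isIntegral _)⟩
  let α : CommRingCat.of B ⟶ Γ(V, ⊤) := CommRingCat.ofHom B.val.toRingHom
  let s : Spec (CommRingCat.of B) ⟶ U := Spec.map (CommRingCat.ofHom (algebraMap Γ(U, ⊤) B)) ≫ U.isoSpec.inv
  let g : V ⟶ Spec (CommRingCat.of B) := V.toSpecΓ ≫ Spec.map α
  have hgs : g ≫ s = f := by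
    simp only [g, s, Category.assoc]
    rw [← Spec.map_comp_assoc, show CommRingCat.ofHom (algebraMap Γ(U, ⊤) B) ≫ α = f.appTop from rfl,
      ← Category.assoc, ← Scheme.toSpecΓ_naturality, Category.assoc, ← Scheme.isoSpec_hom, Iso.hom_inv_id,
      Category.comp_id]
  haveI : IsSeparated s := inferInstance
  haveI : UniversallyClosed (g ≫ s) := by rw [hgs]; infer_instance
  haveI : UniversallyClosed g := UniversallyClosed.of_comp_of_isSeparated g s
  haveI : CompactSpace V := QuasiCompact.compactSpace_of_compactSpace f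
  have hg : Function.Surjective g := by
    intro z
    by_contra hz
    have hcl : IsClosed (Set.range g) := g.isClosedMap.isClosed_range
    obtain ⟨_, ⟨x, rfl⟩, hzx, hsub⟩ :=
      PrimeSpectrum.isTopologicalBasis_basic_opens.exists_subset_of_mem_open hz hcl.isOpen_compl
    have hdisj : ∀ y, g y ∉ PrimeSpectrum.basicOpen x := fun y hy => hsub hy ⟨y, rfl⟩
    have hn := isNilpotent_of_forall_notMem g x hdisj
    have hα : g.appTop ((Scheme.ΓSpecIso (CommRingCat.of B)).inv x) = B.val x :=
      ConcreteCategory.congr_hom (appTop_toSpecΓ_map α) x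
    rw [hα] at hn
    exact hzx (nilradical_le_prime z.asIdeal (mem_nilradical.mpr ((IsNilpotent.map_iff (f := B.val) Subtype.val_injective).mp hn)))
  haveI : Surjective g := ⟨hg⟩
  haveI : Surjective (g ≫ s) := by rw [hgs]; infer_instance
  haveI : Surjective s := Surjective.of_comp g s
  have hsurj : Function.Surjective (PrimeSpectrum.comap (algebraMap Γ(U, ⊤) B)) := fun x => by
    obtain ⟨y, hy⟩ := s.surjective (U.isoSpec.inv x)
    exact ⟨y, U.isoSpec.inv.homeomorph.injective hy⟩
  let b₀ : B := ⟨b, Algebra.subset_adjoin rfl⟩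
  have hgen : Algebra.adjoin Γ(U, ⊤) {b₀} = ⊤ := by
    apply Subalgebra.map_injective (f := B.val) Subtype.val_injective
    rw [AlgHom.map_adjoin, Set.image_singleton, Algebra.map_top, Subalgebra.range_val]
    rfl
  -- the fibre square of the extension
  let φ := CommRingCat.ofHom (algebraMap Γ(U, ⊤) B)
  have hnil : IsNilpotent (b₀ ⊗ₜ[Γ(U, ⊤)] (1 : B) - (1 : B) ⊗ₜ[Γ(U, ⊤)] b₀) := by
    let P := pullback (Spec.map φ) (Spec.map φ)
    let e := pullbackSpecIso Γ(U, ⊤) B B
    let m : pullback f f ⟶ P := pullback.lift (pullback.fst f f ≫ g) (pullback.snd f f ≫ g) (by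
      rw [← cancel_mono U.isoSpec.inv, Category.assoc, Category.assoc, Category.assoc, Category.assoc]
      exact (congrArg (pullback.fst f f ≫ ·) hgs).trans
        (pullback.condition.trans (congrArg (pullback.snd f f ≫ ·) hgs).symm))
    have hm : Surjective m := by
      haveI : Surjective (pullback.map (g ≫ Spec.map φ) (g ≫ Spec.map φ) (Spec.map φ) (Spec.map φ) g g (𝟙 _)
        (Category.comp_id _) (Category.comp_id _)) :=
        MorphismProperty.pullbackMap (P := @Surjective) ‹Surjective g› ‹Surjective g› rfl rfl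
      have hf : g ≫ Spec.map φ = f ≫ U.isoSpec.hom := by
        rw [← hgs]; simp [s, φ]
      let j : pullback f f ⟶ pullback (g ≫ Spec.map φ) (g ≫ Spec.map φ) :=
        pullback.map f f _ _ (𝟙 V) (𝟙 V) U.isoSpec.hom (by rw [Category.id_comp, hf]) (by rw [Category.id_comp, hf])
      have hj : m = j ≫ pullback.map (g ≫ Spec.map φ) (g ≫ Spec.map φ) (Spec.map φ) (Spec.map φ) g g (𝟙 _)
        (Category.comp_id _) (Category.comp_id _) := by
        apply pullback.hom_ext <;>
          simp [m, j, pullback.map, pullback.lift_fst, pullback.lift_snd, pullback.lift_fst_assoc, pullback.lift_snd_assoc]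
      haveI : IsIso j := inferInstance
      haveI : CompactSpace ↥(pullback f f) := QuasiCompact.compactSpace_of_compactSpace (pullback.fst f f)
      rw [hj]
      infer_instance
    let M : pullback f f ⟶ Spec (CommRingCat.of (B ⊗[Γ(U, ⊤)] B)) := m ≫ e.hom
    haveI := hm
    haveI : CompactSpace ↥(pullback f f) := QuasiCompact.compactSpace_of_compactSpace (pullback.fst f f)
    haveI : Surjective M := inferInstance
    let ψ := (Scheme.ΓSpecIso (CommRingCat.of (B ⊗[Γ(U, ⊤)] B))).inv ≫ M.appTop
    have hψ : ∀ x, IsNilpotent (ψ x) → IsNilpotent x := fun x hx => isNilpotent_of_appTop M x hx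
    have key : ∀ (ι : B →+* B ⊗[Γ(U, ⊤)] B) (π : pullback f f ⟶ V), M ≫ Spec.map (CommRingCat.ofHom ι) = π ≫ g →
        ∀ x : B, ψ (ι x) = π.appTop x.1 := fun ι π h x =>
      ConcreteCategory.congr_hom (appTop_of_comp_eq α M (CommRingCat.ofHom ι) π h) x
    have hfst : ∀ x : B, ψ (x ⊗ₜ 1) = (pullback.fst f f).appTop x.1 := by
      refine key Algebra.TensorProduct.includeLeftRingHom _ ?_
      refine (Category.assoc _ _ _).trans ?_
      exact (congrArg (m ≫ ·) (pullbackSpecIso_hom_fst _ _ _)).trans (pullback.lift_fst _ _ _)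
    have hsnd : ∀ x : B, ψ (1 ⊗ₜ x) = (pullback.snd f f).appTop x.1 := by
      refine key (Algebra.TensorProduct.includeRight : B →ₐ[Γ(U, ⊤)] B ⊗[Γ(U, ⊤)] B).toRingHom _ ?_
      refine (Category.assoc _ _ _).trans ?_
      exact (congrArg (m ≫ ·) (pullbackSpecIso_hom_snd _ _ _)).trans (pullback.lift_snd _ _ _)
    refine hψ _ ?_
    rw [map_sub, hfst, hsnd]
    exact hb
  obtain ⟨n, a, ha⟩ := exists_pow_mem_range p hp hpU b₀ hgen hint hsurj hnil
  refine ⟨n, a, ?_⟩
  exact congrArg Subtype.val ha

end Groth.L23.Frob
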