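import Groth.Prelude.Def_W4stkflatp2Frob
import Mathlib.Algebra.CharP.Lemmas
import Mathlib.AlgebraicGeometry.Morphisms.QuasiCompact
import Mathlib.AlgebraicGeometry.Restrict
import Mathlib.Topology.Sheaves.SheafCondition.UniqueGluing

/-!
# Sections up to p-powers
-/

set_option autoImplicit false
set_option linter.style.haveILetI false
set_option linter.unusedSectionVars false
set_option backward.isDefEq.respectTransparency.types false

universe u

open CategoryTheory AlgebraicGeometry Opposite TopologicalSpace HTop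

namespace Groth.L23.Frob

variable {p : ℕ} {X : Scheme.{u}}

theorem mk_add (n k : ℕ) (a : Γ(X, ⊤)) :
    FrobColimSections.mk p n a = FrobColimSections.mk p (n + k) (a ^ (p ^ k)) := by
  induction k with
  | zero => simp
  | succ k ih =>
    rw [ih, FrobColimSections.sound, ← pow_mul, ← pow_succ]
    rfl

theorem mk_eq_iff {n n' : ℕ} {a b : Γ(X, ⊤)} :
    FrobColimSections.mk p n a = FrobColimSections.mk p n' b ↔
      ∃ k l, n + k = n' + l ∧ a ^ (p ^ k) = b ^ (p ^ l) := by
  refine ⟨fun h => ?_, fun ⟨k, l, h1, h2⟩ => ?_⟩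
  · have h' := Quot.eqvGen_exact h
    suffices ∀ x y : ℕ × Γ(X, ⊤), Relation.EqvGen (FrobColimRel p X) x y →
        ∃ k l, x.1 + k = y.1 + l ∧ x.2 ^ (p ^ k) = y.2 ^ (p ^ l) from this _ _ h'
    intro x y hxy
    induction hxy with
    | rel x y h => subst h; exact ⟨1, 0, by simp, by simp⟩
    | refl x => exact ⟨0, 0, rfl, rfl⟩
    | symm x y _ ih => obtain ⟨k, l, h1, h2⟩ := ih; exact ⟨l, k, h1.symm, h2.symm⟩
    | trans x y z _ _ ih ih' =>
      obtain ⟨k, l, h1, h2⟩ := ih
      obtain ⟨k', l', h1', h2'⟩ := ih'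
      refine ⟨k + k', l' + l, by omega, ?_⟩
      rw [pow_add p k, pow_mul, h2, ← pow_mul, mul_comm, pow_mul, h2', ← pow_mul, ← pow_add]
  · rw [mk_add n k a, mk_add n' l b, h1, h2]

theorem mk_eq_iff' (hp : p ≠ 0) {n : ℕ} {a b : Γ(X, ⊤)} :
    FrobColimSections.mk p n a = FrobColimSections.mk p n b ↔ ∃ k, a ^ (p ^ k) = b ^ (p ^ k) := by
  rw [mk_eq_iff]
  refine ⟨fun ⟨k, l, h1, h2⟩ => ⟨k, ?_⟩, fun ⟨k, h⟩ => ⟨k, k, rfl, h⟩⟩
  obtain rfl : k = l := by omega
  exact h2

theorem exists_rep (x : FrobColimSections p X) : ∃ n a, x = FrobColimSections.mk p n a := by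
  induction x using Quot.ind with | mk x => exact ⟨x.1, x.2, rfl⟩

theorem sub_pow_eq [hp : Fact p.Prime] {R : Type u} [CommRing R] (h : (p : R) = 0) (k : ℕ) (a b : R) :
    (a - b) ^ (p ^ k) = a ^ (p ^ k) - b ^ (p ^ k) := by
  rcases subsingleton_or_nontrivial R with hR | hR
  · exact Subsingleton.elim _ _
  · haveI := (CharP.charP_iff_prime_eq_zero hp.out).mpr h
    exact sub_pow_char_pow (p := p) a b k

theorem natCast_eq_zero {Y : Scheme.{u}} (f : Y ⟶ X) (h : (p : Γ(X, ⊤)) = 0) : (p : Γ(Y, ⊤)) = 0 := by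
  rw [← map_natCast f.appTop.hom, h, map_zero]

theorem isNilpotent_sub_of_pow_eq [Fact p.Prime] {R : Type u} [CommRing R] (h : (p : R) = 0) {k : ℕ} {a b : R}
    (e : a ^ (p ^ k) = b ^ (p ^ k)) : IsNilpotent (a - b) :=
  ⟨p ^ k, by rw [sub_pow_eq h, e, sub_self]⟩

theorem exists_pow_eq_of_isNilpotent [hp : Fact p.Prime] {R : Type u} [CommRing R] (h : (p : R) = 0) {a b : R}
    (e : IsNilpotent (a - b)) : ∃ k, a ^ (p ^ k) = b ^ (p ^ k) := by
  obtain ⟨N, hN⟩ := e
  refine ⟨N, sub_eq_zero.mp ?_⟩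
  rw [← sub_pow_eq h]
  exact pow_eq_zero_of_le (Nat.lt_pow_self hp.out.one_lt).le hN

/-- Restriction of sections to an open. -/
theorem topIso_appTop (U : X.Opens) (a : Γ(X, ⊤)) :
    U.topIso.hom (U.ι.appTop a) = X.presheaf.map (homOfLE (le_top : U ≤ ⊤)).op a := by
  rw [Scheme.Opens.ι_appTop, Scheme.Opens.topIso_hom]
  exact (ConcreteCategory.congr_hom (X.presheaf.map_comp _ _) a).symm.trans rfl

/-- Restriction between opens. -/
theorem topIso_homOfLE {U V : X.Opens} (h : U ≤ V) (a : Γ(V.toScheme, ⊤)) :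
    U.topIso.hom ((X.homOfLE h).appTop a) = X.presheaf.map (homOfLE h).op (V.topIso.hom a) := by
  rw [Scheme.homOfLE_appTop, Scheme.Opens.topIso_hom, Scheme.Opens.topIso_hom]
  show (X.presheaf.map (homOfLE _).op ≫ X.presheaf.map (eqToHom _).op) a = (X.presheaf.map _ ≫ X.presheaf.map _) a
  rw [← X.presheaf.map_comp, ← X.presheaf.map_comp]
  rfl

/-- Classes agreeing on a finite open cover agree. -/
theorem eq_of_cover [Fact p.Prime] {ι : Type*} [Finite ι] (U : ι → X.Opens) (hU : ⊤ ≤ iSup U)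
    {x y : FrobColimSections p X}
    (h : ∀ i, FrobColimSections.map p (U i).ι x = FrobColimSections.map p (U i).ι y) : x = y := by
  obtain ⟨n, a, rfl⟩ := exists_rep x
  obtain ⟨m, b, rfl⟩ := exists_rep y
  rw [mk_add n m a, mk_add m n b, add_comm m n] at *
  generalize a ^ (p ^ m) = a, b ^ (p ^ n) = b at h ⊢
  simp only [FrobColimSections.map_mk, mk_eq_iff' (Nat.Prime.ne_zero Fact.out)] at h
  choose k hk using h
  have := Fintype.ofFinite ι
  rw [mk_eq_iff' (Nat.Prime.ne_zero Fact.out)]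
  refine ⟨Finset.univ.sup k, ?_⟩
  refine X.sheaf.eq_of_locally_eq' U ⊤ (fun i => homOfLE le_top) hU _ _ fun i => ?_
  have hh := congrArg (fun z => (U i).topIso.hom (z ^ (p ^ (Finset.univ.sup k - k i)))) (hk i)
  simp only [← pow_mul, ← pow_add, Nat.add_sub_cancel' (Finset.le_sup (Finset.mem_univ i)), ← map_pow,
    topIso_appTop] at hh
  exact hh

/-- Compatible classes on a finite open cover glue. -/
theorem exists_glue [Fact p.Prime] {ι : Type*} [Finite ι] (U : ι → X.Opens) (hU : ⊤ ≤ iSup U)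
    (x : ∀ i, FrobColimSections p (U i).toScheme)
    (h : ∀ i j, FrobColimSections.map p (X.homOfLE (inf_le_left : U i ⊓ U j ≤ U i)) (x i) =
      FrobColimSections.map p (X.homOfLE (inf_le_right : U i ⊓ U j ≤ U j)) (x j)) :
    ∃ y : FrobColimSections p X, ∀ i, FrobColimSections.map p (U i).ι y = x i := by
  choose n a ha using fun i => exists_rep (x i)
  have := Fintype.ofFinite ι
  let N := Finset.univ.sup n
  let a' := fun i => a i ^ (p ^ (N - n i))
  have ha' : ∀ i, x i = FrobColimSections.mk p N (a' i) := fun i => by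
    rw [ha i, mk_add (n i) (N - n i), Nat.add_sub_cancel' (Finset.le_sup (Finset.mem_univ i))]
  simp only [ha', FrobColimSections.map_mk, mk_eq_iff' (Nat.Prime.ne_zero Fact.out)] at h
  choose k hk using h
  let K := Finset.univ.sup fun ij : ι × ι => k ij.1 ij.2
  let s : ∀ i, Γ(X, U i) := fun i => (U i).topIso.hom (a' i ^ (p ^ K))
  obtain ⟨b, hb, -⟩ := X.sheaf.existsUnique_gluing' U ⊤ (fun i => homOfLE le_top) hU s (fun i j => by
    have hK : k i j ≤ K := Finset.le_sup (f := fun ij : ι × ι => k ij.1 ij.2) (Finset.mem_univ (i, j))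
    have hh := congrArg (fun z => (U i ⊓ U j).topIso.hom (z ^ (p ^ (K - k i j)))) (hk i j)
    simp only [← pow_mul, ← pow_add, Nat.add_sub_cancel' hK, ← map_pow, topIso_homOfLE] at hh
    exact hh)
  refine ⟨FrobColimSections.mk p (N + K) b, fun i => ?_⟩
  rw [ha' i, FrobColimSections.map_mk, mk_add N K]
  congr 1
  refine (ConcreteCategory.bijective_of_isIso (U i).topIso.hom).1 ?_
  exact (topIso_appTop (U i) b).trans (hb i)

end Groth.L23.Frob
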