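import Groth.Agent.L23.Frob.LimSheaf
import Groth.Agent.L23.HFlat.Top
import Mathlib.AlgebraicGeometry.Sites.Fpqc
import Mathlib.AlgebraicGeometry.AffineSpace

/-!
# The Frobenius limit of functions is an h sheaf
-/

set_option autoImplicit false
set_option linter.style.haveILetI false
set_option linter.unusedSectionVars false
set_option backward.isDefEq.respectTransparency.types false

universe u

open CategoryTheory CategoryTheory.Limits AlgebraicGeometry Opposite

noncomputable section

namespace Groth.L23.FrobLim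

variable {p : ℕ} {S : Scheme.{u}}

/-- Functions as morphisms to the affine line. -/
def toLine {X : Scheme.{u}} : Γ(X, ⊤) ≃ (X ⟶ Spec (.of (MvPolynomial PUnit.{u+1} (ULift.{u} ℤ)))) :=
  (Equiv.funUnique PUnit.{u+1} _).symm.trans (AffineSpace.toSpecMvPolyIntEquiv _).symm

theorem comp_toLine {X Y : Scheme.{u}} (f : X ⟶ Y) (a : Γ(Y, ⊤)) : f ≫ toLine a = toLine (f.appTop a) := by
  refine toLine.symm.injective ?_
  rw [Equiv.symm_apply_apply]
  show (AffineSpace.toSpecMvPolyIntEquiv PUnit.{u+1}) (f ≫ toLine a) _ = _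
  rw [AffineSpace.toSpecMvPolyIntEquiv_comp]
  exact congrArg f.appTop ((toLine (X := Y)).symm_apply_apply a)

theorem isSheafFor_of_line {T : Over S} (R : Sieve T)
    (h : Presieve.IsSheafFor (yoneda.obj (Spec (.of (MvPolynomial PUnit.{u+1} (ULift.{u} ℤ))))) (Sieve.overEquiv T R).arrows) :
    Presieve.IsSheafFor (HTop.frobLimPresheaf p S) R.arrows := by
  intro x hx
  have hy : ∀ n, Presieve.FamilyOfElements.Compatible (P := yoneda.obj (Spec (.of (MvPolynomial PUnit.{u+1} (ULift.{u} ℤ)))))
      (R := (Sieve.overEquiv T R).arrows) (fun W k hk => toLine ((x _ ((Sieve.overEquiv_iff R k).1 hk)).1 n)) := by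
    intro n W₁ W₂ V g₁ g₂ f₁ f₂ h₁ h₂ e
    show g₁ ≫ toLine _ = g₂ ≫ toLine _
    rw [comp_toLine, comp_toLine]
    let V' : Over S := Over.mk ((g₁ ≫ f₁) ≫ T.hom)
    let m₁ : V' ⟶ Over.mk (f₁ ≫ T.hom) := Over.homMk g₁ (by simp [V'])
    let m₂ : V' ⟶ Over.mk (f₂ ≫ T.hom) := Over.homMk g₂
      (by show g₂ ≫ f₂ ≫ T.hom = (g₁ ≫ f₁) ≫ T.hom; rw [e, Category.assoc])
    exact congrArg toLine (congrArg (fun a : HTop.FrobLimSections p V => a.1 n)
      (hx m₁ m₂ ((Sieve.overEquiv_iff R f₁).1 h₁) ((Sieve.overEquiv_iff R f₂).1 h₂) (Over.OverMorphism.ext e)))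
  choose t ht hu using fun n => h _ (hy n)
  have key : ∀ n (W : Over S) (k : W ⟶ T) (hk : R k), k.left ≫ t n = toLine ((x k hk).1 n) := by
    intro n W k hk
    have hk' : (Sieve.overEquiv T R) k.left := by
      rw [Sieve.overEquiv_iff]
      convert R.downward_closed hk (Over.homMk (𝟙 W.left) (by simp) : Over.mk (k.left ≫ T.hom) ⟶ W) using 1
      exact Over.OverMorphism.ext (Category.id_comp _).symm
    refine (ht n k.left hk').trans (congrArg toLine ?_)
    have h2 := congrArg (fun a : HTop.FrobLimSections p (Over.mk (k.left ≫ T.hom)).left => a.1 n)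
      (hx (𝟙 _) (Over.homMk (𝟙 W.left) (by simp) : Over.mk (k.left ≫ T.hom) ⟶ W) ((Sieve.overEquiv_iff R k.left).1 hk') hk
        (Over.OverMorphism.ext (by simp)))
    change (𝟙 W.left : _ ⟶ _).appTop _ = (𝟙 W.left : _ ⟶ _).appTop _ at h2
    simpa using h2
  have hsep : ∀ (n : ℕ) (c : Γ(T.left, ⊤)), (∀ (W : Over S) (k : W ⟶ T) (hk : R k),
      k.left.appTop c = (x k hk).1 n) → toLine c = t n := fun n c hc => hu n _ fun W k hk => by
    show k ≫ toLine c = _
    rw [comp_toLine]
    exact congrArg toLine (hc _ _ ((Sieve.overEquiv_iff R k).1 hk))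
  have hval : ∀ n (W : Over S) (k : W ⟶ T) (hk : R k), k.left.appTop (toLine.symm (t n)) = (x k hk).1 n := by
    intro n W k hk
    refine toLine.injective ?_
    rw [← comp_toLine, Equiv.apply_symm_apply, key]
  refine ⟨⟨fun n => toLine.symm (t n), fun n => toLine.injective ?_⟩, fun W k hk =>
    HTop.FrobLimSections.ext fun n => hval n W k hk, fun y hy' => HTop.FrobLimSections.ext fun n => ?_⟩
  · rw [Equiv.apply_symm_apply]
    refine hsep n _ fun W k hk => ?_
    rw [map_pow, hval]
    exact (x k hk).2 n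
  · show y.1 n = toLine.symm (t n)
    rw [← hsep n _ fun W k hk => congrArg (fun a : HTop.FrobLimSections p W.left => a.1 n) (hy' k hk),
      Equiv.symm_apply_apply]

theorem isSheaf_zariski : Presieve.IsSheaf (Scheme.zariskiTopology.over S) (HTop.frobLimPresheaf p S) :=
  fun T R hR => isSheafFor_of_line R
    (GrothendieckTopology.Subcanonical.isSheaf_of_isRepresentable (J := Scheme.zariskiTopology) _ _
      (by rwa [← GrothendieckTopology.mem_over_iff]))

theorem flatCond : Groth.L23.HFlat.FlatCond (HTop.frobLimPresheaf p S) := by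
  intro X Y f _ hs hf hp hfp
  rw [Presieve.isSheafFor_iff_generate]
  refine isSheafFor_of_line _ (GrothendieckTopology.Subcanonical.isSheaf_of_isRepresentable
    (J := Scheme.fppfTopology) _ _ ?_)
  refine GrothendieckTopology.superset_covering _ ?_
    (Precoverage.generate_mem_toGrothendieck f.left.singleton_mem_fppfPrecoverage)
  rw [Sieve.generate_le_iff]
  rintro W k ⟨⟩
  exact (Sieve.overEquiv_iff (Sieve.generate (Presieve.singleton f)) _).2
    ⟨X, Over.homMk (𝟙 _) ((Category.id_comp _).trans (Over.w f).symm), f, ⟨⟩, Over.OverMorphism.ext (Category.id_comp _)⟩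

variable [hp : Fact p.Prime]

open Groth.L23.HFlat in
theorem hyp_frobLim (hS : (p : Γ(S, ⊤)) = 0) :
    Hyp (inducedTop (Sheaf.finestTopologySingle (HTop.frobLimPresheaf p S))) := by
  refine Hyp.ofAffine (fun X R hR T g => Groth.L23.HCmp.zariski_over_le isSheaf_zariski _ (by
    rw [GrothendieckTopology.mem_over_iff, OrderIso.apply_symm_apply]
    exact Scheme.zariskiTopology.pullback_stable g hR)) ?_ ?_ ?_
  · intro Y X f _ hs hf hpr hfp T g
    refine Groth.L23.HCmp.mem_of_affine isSheaf_zariski _ fun U hU h => ?_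
    let V : Over S := Over.mk (pullback.fst (h.left ≫ g) f ≫ U.hom)
    let f' : V ⟶ U := Over.homMk (pullback.fst (h.left ≫ g) f) rfl
    have he : ((Sieve.overEquiv T).symm ((oneSieve f).pullback g)).pullback h =
        Sieve.generate (Presieve.singleton f') := by
      ext W k
      rw [← Sieve.overEquiv_symm_pullback, Sieve.overEquiv_symm_iff, ← Sieve.pullback_comp]
      constructor
      · rintro ⟨l, hl⟩
        exact ⟨V, Over.homMk (pullback.lift k.left l hl.symm)
          (by show _ ≫ pullback.fst _ _ ≫ U.hom = _; rw [pullback.lift_fst_assoc, Over.w k]), f', ⟨⟩,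
          Over.OverMorphism.ext (pullback.lift_fst _ _ _)⟩
      · rintro ⟨_, m, _, ⟨⟩, rfl⟩
        exact ⟨m.left ≫ pullback.snd _ _, by
          show _ = (m.left ≫ pullback.fst _ _) ≫ _
          rw [Category.assoc, Category.assoc, pullback.condition]⟩
    rw [he]
    haveI := hs
    haveI := hf
    haveI := hpr
    haveI := hfp
    exact (Presieve.isSheafFor_iff_generate _).1 (flatCond V U f' hU
      (inferInstanceAs (Surjective (pullback.fst (h.left ≫ g) f)))
      (inferInstanceAs (Flat (pullback.fst (h.left ≫ g) f)))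
      (inferInstanceAs (IsProper (pullback.fst (h.left ≫ g) f)))
      (inferInstanceAs (LocallyOfFinitePresentation (pullback.fst (h.left ≫ g) f))))
  · intro A _ I J hIJ T g
    refine Groth.L23.HCmp.mem_of_affine isSheaf_zariski _ fun U hU h => ?_
    let β := ev (h.left ≫ g)
    refine isSheafFor_pair U (Groth.L23.Frob.natCast_eq_zero U.hom hS) (I.map β) (J.map β) ?_ _ fun W k => ?_
    · obtain ⟨m, hm⟩ := hIJ
      exact ⟨m, by rw [← Ideal.map_mul, ← Ideal.map_pow, hm]; exact Ideal.map_bot⟩
    · rw [← Sieve.overEquiv_symm_pullback, Sieve.overEquiv_symm_iff, ← Sieve.pullback_comp, Sieve.pullback_apply]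
      show (I.map (ev (k.left ≫ h.left ≫ g)) = ⊥ ∨ J.map (ev (k.left ≫ h.left ≫ g)) = ⊥) ↔ _
      rw [ev_comp, ← Ideal.map_map, ← Ideal.map_map]
  · intro A _ a b T g
    refine Groth.L23.HCmp.mem_of_affine isSheaf_zariski _ fun U hU h => ?_
    let β := ev (h.left ≫ g)
    refine isSheafFor_div U (Groth.L23.Frob.natCast_eq_zero U.hom hS) (β a) (β b) _ fun W k => ?_
    rw [← Sieve.overEquiv_symm_pullback, Sieve.overEquiv_symm_iff, ← Sieve.pullback_comp, Sieve.pullback_apply]
    rfl

theorem isSheaf_Jh (hS : (p : Γ(S, ⊤)) = 0) : Presieve.IsSheaf (HTop.Jh S) (HTop.frobLimPresheaf p S) :=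
  Groth.L23.HFlat.isSheaf_Jh_of_hyp isSheaf_zariski (hyp_frobLim hS)

end Groth.L23.FrobLim

end
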