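import Mathlib.Algebra.Polynomial.Laurent
import Mathlib.RingTheory.Ideal.Quotient.Operations
import Mathlib.Tactic.LinearCombination

/-!
# Two charts dividing one of two elements by the other
-/

set_option autoImplicit false
set_option linter.style.haveILetI false

universe u

open Polynomial

noncomputable section

namespace Groth.L23.FrobLim

variable {A : Type u} [CommRing A]

/-- `f ↦ f(1/T)`. -/
def neg : A[X] →+* LaurentPolynomial A :=
  (LaurentPolynomial.invert (R := A)).toRingEquiv.toRingHom.comp Polynomial.toLaurent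

theorem neg_X : neg (X : A[X]) = LaurentPolynomial.T (-1) := by simp [neg]

theorem neg_C (a : A) : neg (Polynomial.C a) = LaurentPolynomial.C a := by simp [neg]

theorem coeff_toLaurent_nat (f : A[X]) (n : ℕ) : (toLaurent f).coeff (n : ℤ) = f.coeff n := by
  rw [LaurentPolynomial.coeff_toLaurent]
  exact (Finsupp.mapDomain_apply Nat.castEmbedding.injective _ n).trans rfl

theorem coeff_toLaurent_neg (f : A[X]) (n : ℤ) (hn : n < 0) : (toLaurent f).coeff n = 0 := by
  rw [LaurentPolynomial.coeff_toLaurent]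
  exact Finsupp.mapDomain_of_notMem_range _ _ (by rintro ⟨m, rfl⟩; simp at hn; omega)

theorem coeff_neg (f : A[X]) (n : ℤ) : (neg f).coeff n = (toLaurent f).coeff (-n) :=
  LaurentPolynomial.invert_apply _ _

theorem eq_C_of_toLaurent_eq_neg (P Q : A[X]) (h : toLaurent P = neg Q) :
    P = Polynomial.C (P.coeff 0) ∧ Q = Polynomial.C (P.coeff 0) := by
  have key : ∀ n : ℕ, 0 < n → P.coeff n = 0 ∧ Q.coeff n = 0 := fun n hn => by
    constructor
    · rw [← coeff_toLaurent_nat, h, coeff_neg, coeff_toLaurent_neg _ _ (by omega)]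
    · rw [← coeff_toLaurent_nat, show ((n : ℤ)) = -(-(n : ℤ)) by omega, ← coeff_neg, ← h,
        coeff_toLaurent_neg _ _ (by omega)]
  refine ⟨Polynomial.ext fun n => ?_, Polynomial.ext fun n => ?_⟩
  · rcases Nat.eq_zero_or_pos n with rfl | hn
    · simp
    · simp [(key n hn).1, Polynomial.coeff_C, hn.ne']
  · rcases Nat.eq_zero_or_pos n with rfl | hn
    · rw [Polynomial.coeff_C_zero, ← coeff_toLaurent_nat, ← coeff_toLaurent_nat, h, coeff_neg]
      simp
    · simp [(key n hn).2, Polynomial.coeff_C, hn.ne']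

theorem exists_split (f : LaurentPolynomial A) :
    ∃ P Q : A[X], f = toLaurent P + LaurentPolynomial.T (-1) * neg Q := by
  induction f using LaurentPolynomial.induction_on' with
  | add f g hf hg =>
    obtain ⟨P, Q, rfl⟩ := hf
    obtain ⟨P', Q', rfl⟩ := hg
    exact ⟨P + P', Q + Q', by rw [map_add, map_add]; ring⟩
  | C_mul_T n a =>
    rcases lt_or_ge n 0 with hn | hn
    · obtain ⟨m, rfl⟩ : ∃ m : ℕ, n = -1 + -(m : ℤ) := ⟨(-1 - n).toNat, by omega⟩
      refine ⟨0, Polynomial.C a * X ^ m, ?_⟩
      rw [map_zero, zero_add, map_mul, map_pow, neg_C, neg_X, LaurentPolynomial.T_pow, LaurentPolynomial.T_add,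
        mul_neg_one]
      ring
    · obtain ⟨m, rfl⟩ := Int.eq_ofNat_of_zero_le hn
      exact ⟨Polynomial.C a * X ^ m, 0, by simp⟩

variable (a b : A)

theorem neg_rel : neg (Polynomial.C b * X - Polynomial.C a) =
    -(LaurentPolynomial.T (-1)) * (LaurentPolynomial.C a * LaurentPolynomial.T 1 - LaurentPolynomial.C b) := by
  rw [map_sub, map_mul, neg_C, neg_C, neg_X, mul_sub, neg_mul, neg_mul, mul_left_comm, ← LaurentPolynomial.T_add,
    neg_add_cancel, LaurentPolynomial.T_zero, mul_one]
  ring

theorem toLaurent_rel : toLaurent (Polynomial.C a * X - Polynomial.C b) =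
    LaurentPolynomial.C a * LaurentPolynomial.T 1 - LaurentPolynomial.C b := by simp

/-- A common constant for compatible polynomials on the two charts. -/
theorem exists_const (P Q : A[X]) (h : toLaurent P - neg Q ∈
    Ideal.span {LaurentPolynomial.C a * LaurentPolynomial.T 1 - LaurentPolynomial.C b}) :
    ∃ c : A, Polynomial.C c - P ∈ Ideal.span {Polynomial.C a * X - Polynomial.C b} ∧
      Polynomial.C c - Q ∈ Ideal.span {Polynomial.C b * X - Polynomial.C a} := by
  obtain ⟨f, hf⟩ := Ideal.mem_span_singleton.mp h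
  obtain ⟨P', Q', rfl⟩ := exists_split f
  have h2 : toLaurent (P - (Polynomial.C a * X - Polynomial.C b) * P') =
      neg (Q - (Polynomial.C b * X - Polynomial.C a) * Q') := by
    rw [map_sub, map_sub, map_mul, map_mul, neg_rel, toLaurent_rel]
    linear_combination hf
  obtain ⟨hP, hQ⟩ := eq_C_of_toLaurent_eq_neg _ _ h2
  exact ⟨_, Ideal.mem_span_singleton.mpr ⟨-P', by rw [← hP]; ring⟩,
    Ideal.mem_span_singleton.mpr ⟨-Q', by rw [← hQ]; ring⟩⟩

/-- A constant vanishing on both charts squares to zero. -/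
theorem sq_eq_zero (c : A) (h₁ : Polynomial.C c ∈ Ideal.span {Polynomial.C a * X - Polynomial.C b})
    (h₂ : Polynomial.C c ∈ Ideal.span {Polynomial.C b * X - Polynomial.C a}) : c ^ 2 = 0 := by
  obtain ⟨R, hR⟩ := Ideal.mem_span_singleton.mp h₁
  obtain ⟨R', hR'⟩ := Ideal.mem_span_singleton.mp h₂
  have e₁ := congrArg toLaurent hR
  rw [map_mul, toLaurent_rel, Polynomial.toLaurent_C] at e₁
  have e₂ := congrArg neg hR'
  rw [map_mul, neg_rel, neg_C] at e₂
  have key : LaurentPolynomial.C c * (toLaurent R + LaurentPolynomial.T (-1) * neg R') = 0 := by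
    linear_combination (LaurentPolynomial.T (-1) * neg R') * e₁ + toLaurent R * e₂
  have hc : c * R.coeff 0 = 0 := by
    have e : toLaurent (Polynomial.C c * R) + LaurentPolynomial.T (-1) * neg (Polynomial.C c * R') = 0 := by
      rw [map_mul, map_mul, neg_C, Polynomial.toLaurent_C]; linear_combination key
    have e' := congrArg (fun f : LaurentPolynomial A => f.coeff (0 : ℤ)) e
    have hz : ∀ f : A[X], (toLaurent f).coeff (0 : ℤ) = f.coeff 0 := fun f => coeff_toLaurent_nat f 0
    have e'' : (LaurentPolynomial.T (-1) * neg (Polynomial.C c * R') : LaurentPolynomial A) =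
        neg (X * (Polynomial.C c * R')) := by rw [map_mul (neg (A := A)) X, neg_X]
    rw [e''] at e'
    rw [AddMonoidAlgebra.coeff_add, Finsupp.add_apply, coeff_neg, neg_zero, hz, hz, Polynomial.coeff_C_mul,
      Polynomial.coeff_X_mul_zero, add_zero] at e'
    simpa using e'
  have h3 : c = -b * R.coeff 0 := by
    have := congrArg (fun f : A[X] => f.coeff 0) hR
    simpa using this
  calc c ^ 2 = -b * (c * R.coeff 0) := by rw [sq]; nth_rw 1 [h3]; ring
    _ = 0 := by rw [hc, mul_zero]

end Groth.L23.FrobLim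

end
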