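import Groth.Agent.L23.Frob.LimAlg
import Groth.Agent.L23.Frob.Colim
import Groth.Agent.L23.Frob.Algebra
import Groth.Agent.L23.HFlat.Affine
import Groth.Prelude.Def_W4stkflatFrob

/-!
# Frobenius limits of functions glue along closed pairs and division covers
-/

set_option autoImplicit false
set_option linter.style.haveILetI false
set_option linter.unusedSectionVars false
set_option backward.isDefEq.respectTransparency.types false

universe u

open CategoryTheory CategoryTheory.Limits AlgebraicGeometry Opposite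

noncomputable section

namespace Groth.L23.FrobLim

variable {p : ℕ} {S : Scheme.{u}}

theorem pow_shift {X : Scheme.{u}} (a : HTop.FrobLimSections p X) (n : ℕ) : ∀ L, a.1 (n + L) ^ p ^ L = a.1 n
  | 0 => by simp
  | L + 1 => by rw [pow_succ', pow_mul, show n + (L + 1) = n + L + 1 from rfl, a.2, pow_shift a n L]

theorem isSheafFor_of_lift {U : Over S} (R : Sieve U) (L : ℕ)
    (huniq : ∀ c c' : Γ(U.left, ⊤), (∀ (W : Over S) (k : W ⟶ U), R k → k.left.appTop c = k.left.appTop c') →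
      c ^ p ^ L = c' ^ p ^ L)
    (hex : ∀ (x : Presieve.FamilyOfElements (HTop.frobLimPresheaf p S) R.arrows), x.Compatible → ∀ n,
      ∃ c : Γ(U.left, ⊤), ∀ (W : Over S) (k : W ⟶ U) (hk : R k), k.left.appTop c = (x k hk).1 n) :
    Presieve.IsSheafFor (HTop.frobLimPresheaf p S) R.arrows := by
  intro x hx
  choose c hc using hex x hx
  have hrel : ∀ n, (c (n + 1 + L) ^ p ^ L) ^ p = c (n + L) ^ p ^ L := fun n => by
    rw [← pow_mul, mul_comm, pow_mul]
    refine huniq _ _ fun W k hk => ?_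
    rw [map_pow, hc, hc, show n + 1 + L = n + L + 1 by omega]
    exact (x k hk).2 (n + L)
  refine ⟨⟨fun n => c (n + L) ^ p ^ L, hrel⟩, fun W k hk => HTop.FrobLimSections.ext fun n => ?_, fun y hy =>
    HTop.FrobLimSections.ext fun n => ?_⟩
  · show k.left.appTop (c (n + L) ^ p ^ L) = (x k hk).1 n
    rw [map_pow, hc, pow_shift]
  · show y.1 n = c (n + L) ^ p ^ L
    rw [← pow_shift y n L]
    refine huniq _ _ fun W k hk => ?_
    rw [hc _ W k hk, ← hy k hk]
    rfl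

variable (U : Over S) [IsAffine U.left] {C D : Type u} [CommRing C] [CommRing D]

/-- An affine piece over an affine object. -/
abbrev piece (φ : Γ(U.left, ⊤) →+* C) : Over S := Over.mk (Groth.L23.HFlat.sMap φ ≫ U.left.isoSpec.inv ≫ U.hom)

/-- Its structure morphism. -/
abbrev pieceMap (φ : Γ(U.left, ⊤) →+* C) : piece U φ ⟶ U :=
  Over.homMk (Groth.L23.HFlat.sMap φ ≫ U.left.isoSpec.inv) (Category.assoc _ _ _)

/-- Functions on a piece. -/
abbrev θ (φ : Γ(U.left, ⊤) →+* C) : C →+* Γ((piece U φ).left, ⊤) := (Scheme.ΓSpecIso (CommRingCat.of C)).inv.hom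

theorem θ_bijective (φ : Γ(U.left, ⊤) →+* C) : Function.Bijective (θ U φ) :=
  ConcreteCategory.bijective_of_isIso (Scheme.ΓSpecIso (CommRingCat.of C)).inv

theorem pieceMap_appTop (φ : Γ(U.left, ⊤) →+* C) (a : Γ(U.left, ⊤)) :
    (pieceMap U φ).left.appTop a = θ U φ (φ a) := by
  have h : (pieceMap U φ).left.appTop = CommRingCat.ofHom φ ≫ (Scheme.ΓSpecIso (CommRingCat.of C)).inv := by
    show (Spec.map (CommRingCat.ofHom φ) ≫ U.left.isoSpec.inv).appTop = _
    have hi : U.left.isoSpec.inv.appTop = (Scheme.ΓSpecIso Γ(U.left, ⊤)).inv := by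
      have h1 := congrArg Scheme.Hom.appTop (Scheme.toSpecΓ_isoSpec_inv U.left)
      rw [Scheme.Hom.comp_appTop, Scheme.toSpecΓ_appTop] at h1
      exact (Iso.comp_hom_eq_id _).1 h1
    rw [Scheme.Hom.comp_appTop, hi]
    exact (Scheme.ΓSpecIso_inv_naturality (CommRingCat.ofHom φ)).symm
  exact ConcreteCategory.congr_hom h a

theorem exists_lift (φ : Γ(U.left, ⊤) →+* C) {W : Over S} (k : W ⟶ U) (ρ : C →+* Γ(W.left, ⊤))
    (h : ρ.comp φ = k.left.appTop.hom) :
    ∃ m : W ⟶ piece U φ, m ≫ pieceMap U φ = k ∧ ∀ c, m.left.appTop (θ U φ c) = ρ c := by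
  have e : (W.left.toSpecΓ ≫ Groth.L23.HFlat.sMap ρ) ≫ Groth.L23.HFlat.sMap φ ≫ U.left.isoSpec.inv = k.left := by
    rw [Category.assoc, ← Category.assoc (Groth.L23.HFlat.sMap ρ), Groth.L23.HFlat.sMap_comp, h]
    show W.left.toSpecΓ ≫ Spec.map k.left.appTop ≫ _ = _
    rw [← Scheme.toSpecΓ_naturality_assoc, ← Scheme.isoSpec_hom, Iso.hom_inv_id, Category.comp_id]
  refine ⟨Over.homMk (W.left.toSpecΓ ≫ Groth.L23.HFlat.sMap ρ) ?_, Over.OverMorphism.ext e, fun c => ?_⟩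
  · show _ ≫ Groth.L23.HFlat.sMap φ ≫ U.left.isoSpec.inv ≫ U.hom = W.hom
    rw [← Over.w k, ← e]
    simp only [Category.assoc]
  · exact ConcreteCategory.congr_hom (Groth.L23.Frob.appTop_toSpecΓ_map (CommRingCat.ofHom ρ)) c

theorem family_eq {R : Sieve U} {x : Presieve.FamilyOfElements (HTop.frobLimPresheaf p S) R.arrows} (hx : x.Compatible)
    (φ : Γ(U.left, ⊤) →+* C) (hφ : R (pieceMap U φ)) {W : Over S} (k : W ⟶ U) (hk : R k)
    (ρ : C →+* Γ(W.left, ⊤)) (h : ρ.comp φ = k.left.appTop.hom) (n : ℕ) (z : C)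
    (hz : θ U φ z = (x (pieceMap U φ) hφ).1 n) : (x k hk).1 n = ρ z := by
  obtain ⟨m, hm, hmρ⟩ := exists_lift U φ k ρ h
  have h2 := congrArg (fun a : HTop.FrobLimSections p W.left => a.1 n)
    (hx m (𝟙 W) hφ hk (by rw [Category.id_comp, hm]))
  change m.left.appTop ((x (pieceMap U φ) hφ).1 n) = (𝟙 W : W ⟶ W).left.appTop ((x k hk).1 n) at h2
  rw [← hz, hmρ] at h2
  simpa using h2.symm

theorem quot_factor {A B : Type u} [CommRing A] [CommRing B] (I : Ideal A) (f : A →+* B) (h : I.map f = ⊥) :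
    ∃ ρ : A ⧸ I →+* B, ρ.comp (Ideal.Quotient.mk I) = f :=
  ⟨Ideal.Quotient.lift I f fun x hx => by rw [← Ideal.mem_bot, ← h]; exact Ideal.mem_map_of_mem _ hx, rfl⟩

variable [hp : Fact p.Prime]

theorem isSheafFor_pair (hpU : (p : Γ(U.left, ⊤)) = 0) (I J : Ideal Γ(U.left, ⊤)) (hIJ : IsNilpotent (I * J))
    (R : Sieve U) (hR : ∀ (W : Over S) (k : W ⟶ U),
      R k ↔ (I.map k.left.appTop.hom = ⊥ ∨ J.map k.left.appTop.hom = ⊥)) :
    Presieve.IsSheafFor (HTop.frobLimPresheaf p S) R.arrows := by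
  obtain ⟨m, hm⟩ := hIJ
  have hq : ∀ K : Ideal Γ(U.left, ⊤), K.map (pieceMap U (Ideal.Quotient.mk K)).left.appTop.hom = ⊥ := fun K => by
    rw [Ideal.map, Ideal.span_eq_bot]
    rintro _ ⟨a, ha, rfl⟩
    show (pieceMap U (Ideal.Quotient.mk K)).left.appTop a = 0
    rw [pieceMap_appTop, Ideal.Quotient.eq_zero_iff_mem.mpr ha, map_zero]
  have hI : R (pieceMap U (Ideal.Quotient.mk I)) := (hR _ _).2 (Or.inl (hq I))
  have hJ : R (pieceMap U (Ideal.Quotient.mk J)) := (hR _ _).2 (Or.inr (hq J))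
  refine isSheafFor_of_lift R (2 * m) (fun c c' h => ?_) fun x hx n => ?_
  · have hk : ∀ K : Ideal Γ(U.left, ⊤), R (pieceMap U (Ideal.Quotient.mk K)) → c - c' ∈ K := fun K hK => by
      have e := h _ _ hK
      rw [pieceMap_appTop, pieceMap_appTop] at e
      exact (Ideal.Quotient.eq).1 ((θ_bijective U (Ideal.Quotient.mk K)).1 e)
    have h2 : (c - c') ^ (2 * m) = 0 := by
      rw [pow_mul, sq, ← Ideal.mem_bot, show (⊥ : Ideal Γ(U.left, ⊤)) = 0 from rfl, ← hm]
      exact Ideal.pow_mem_pow (Ideal.mul_mem_mul (hk I hI) (hk J hJ)) m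
    rw [← sub_eq_zero, ← Groth.L23.Frob.sub_pow_eq hpU]
    exact pow_eq_zero_of_le (Nat.lt_pow_self hp.out.one_lt).le h2
  · obtain ⟨z, hz⟩ := (θ_bijective U (Ideal.Quotient.mk I)).2 ((x _ hI).1 n)
    obtain ⟨w, hw⟩ := (θ_bijective U (Ideal.Quotient.mk J)).2 ((x _ hJ).1 n)
    obtain ⟨z₀, rfl⟩ := Ideal.Quotient.mk_surjective z
    obtain ⟨w₀, rfl⟩ := Ideal.Quotient.mk_surjective w
    have hdiff : z₀ - w₀ ∈ I ⊔ J := by
      let K := I ⊔ J
      have hK : R (pieceMap U (Ideal.Quotient.mk K)) := (hR _ _).2 (Or.inl (eq_bot_iff.2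
        (le_trans (Ideal.map_mono le_sup_left) (hq K).le)))
      let ρI : Γ(U.left, ⊤) ⧸ I →+* Γ((piece U (Ideal.Quotient.mk K)).left, ⊤) :=
        (θ U (Ideal.Quotient.mk K)).comp (Ideal.Quotient.factor le_sup_left)
      let ρJ : Γ(U.left, ⊤) ⧸ J →+* Γ((piece U (Ideal.Quotient.mk K)).left, ⊤) :=
        (θ U (Ideal.Quotient.mk K)).comp (Ideal.Quotient.factor le_sup_right)
      have e1 := family_eq U hx _ hI _ hK ρI (RingHom.ext fun a => (pieceMap_appTop U (Ideal.Quotient.mk K) a).symm) n _ hz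
      have e2 := family_eq U hx _ hJ _ hK ρJ (RingHom.ext fun a => (pieceMap_appTop U (Ideal.Quotient.mk K) a).symm) n _ hw
      exact Ideal.Quotient.eq.1 ((θ_bijective U (Ideal.Quotient.mk K)).1 (e1.symm.trans e2))
    obtain ⟨i, hi, j, hj, hij⟩ := Submodule.mem_sup.1 hdiff
    refine ⟨z₀ - i, fun W k hk => ?_⟩
    rcases (hR W k).1 hk with h | h
    · obtain ⟨ρ, hρ⟩ := quot_factor I _ h
      rw [family_eq U hx _ hI k hk ρ hρ n _ hz]
      show k.left.appTop.hom (z₀ - i) = _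
      rw [← hρ, RingHom.comp_apply]
      exact congrArg ρ (Ideal.Quotient.eq.2 (by simpa using hi))
    · obtain ⟨ρ, hρ⟩ := quot_factor J _ h
      rw [family_eq U hx _ hJ k hk ρ hρ n _ hw]
      show k.left.appTop.hom (z₀ - i) = _
      rw [← hρ, RingHom.comp_apply]
      exact congrArg ρ (Ideal.Quotient.eq.2 (by rw [show z₀ - i - w₀ = j by linear_combination -hij]; exact hj))

open Polynomial in
theorem isSheafFor_div (hpU : (p : Γ(U.left, ⊤)) = 0) (a b : Γ(U.left, ⊤))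
    (R : Sieve U) (hR : ∀ (W : Over S) (k : W ⟶ U),
      R k ↔ ((∃ t, k.left.appTop a * t = k.left.appTop b) ∨ (∃ t, k.left.appTop b * t = k.left.appTop a))) :
    Presieve.IsSheafFor (HTop.frobLimPresheaf p S) R.arrows := by
  let A := Γ(U.left, ⊤)
  let I₁ : Ideal A[X] := Ideal.span {Polynomial.C a * X - Polynomial.C b}
  let I₂ : Ideal A[X] := Ideal.span {Polynomial.C b * X - Polynomial.C a}
  let φ₁ : A →+* A[X] ⧸ I₁ := (Ideal.Quotient.mk I₁).comp Polynomial.C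
  let φ₂ : A →+* A[X] ⧸ I₂ := (Ideal.Quotient.mk I₂).comp Polynomial.C
  have r₁ : φ₁ a * Ideal.Quotient.mk I₁ X = φ₁ b := by
    show Ideal.Quotient.mk I₁ (Polynomial.C a) * Ideal.Quotient.mk I₁ X = Ideal.Quotient.mk I₁ (Polynomial.C b)
    rw [← map_mul, Ideal.Quotient.eq]
    exact Ideal.mem_span_singleton_self _
  have r₂ : φ₂ b * Ideal.Quotient.mk I₂ X = φ₂ a := by
    show Ideal.Quotient.mk I₂ (Polynomial.C b) * Ideal.Quotient.mk I₂ X = Ideal.Quotient.mk I₂ (Polynomial.C a)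
    rw [← map_mul, Ideal.Quotient.eq]
    exact Ideal.mem_span_singleton_self _
  have h₁ : R (pieceMap U φ₁) := (hR _ _).2 (Or.inl ⟨θ U φ₁ (Ideal.Quotient.mk I₁ X), by
    rw [pieceMap_appTop, pieceMap_appTop, ← map_mul, r₁]⟩)
  have h₂ : R (pieceMap U φ₂) := (hR _ _).2 (Or.inr ⟨θ U φ₂ (Ideal.Quotient.mk I₂ X), by
    rw [pieceMap_appTop, pieceMap_appTop, ← map_mul, r₂]⟩)
  refine isSheafFor_of_lift R 1 (fun c c' h => ?_) fun x hx n => ?_
  · have e₁ := h _ _ h₁
    have e₂ := h _ _ h₂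
    rw [pieceMap_appTop, pieceMap_appTop] at e₁ e₂
    have e₁' := Ideal.Quotient.eq.1 ((θ_bijective U φ₁).1 e₁)
    have e₂' := Ideal.Quotient.eq.1 ((θ_bijective U φ₂).1 e₂)
    rw [← map_sub] at e₁' e₂'
    rw [← sub_eq_zero, ← Groth.L23.Frob.sub_pow_eq hpU, pow_one]
    exact pow_eq_zero_of_le hp.out.two_le (sq_eq_zero a b _ e₁' e₂')
  · obtain ⟨z, hz⟩ := (θ_bijective U φ₁).2 ((x _ h₁).1 n)
    obtain ⟨w, hw⟩ := (θ_bijective U φ₂).2 ((x _ h₂).1 n)
    obtain ⟨P, rfl⟩ := Ideal.Quotient.mk_surjective z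
    obtain ⟨Q, rfl⟩ := Ideal.Quotient.mk_surjective w
    let I : Ideal (LaurentPolynomial A) :=
      Ideal.span {LaurentPolynomial.C a * LaurentPolynomial.T 1 - LaurentPolynomial.C b}
    have hmem : toLaurent P - neg Q ∈ I := by
      let φ : A →+* LaurentPolynomial A ⧸ I := (Ideal.Quotient.mk I).comp LaurentPolynomial.C
      let ψ₁ : A[X] ⧸ I₁ →+* LaurentPolynomial A ⧸ I :=
        Ideal.Quotient.lift I₁ ((Ideal.Quotient.mk I).comp toLaurent) (fun y hy => by
          obtain ⟨r, rfl⟩ := Ideal.mem_span_singleton.mp hy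
          rw [RingHom.comp_apply, Ideal.Quotient.eq_zero_iff_mem, map_mul, toLaurent_rel]
          exact Ideal.mul_mem_right _ _ (Ideal.mem_span_singleton_self _))
      let ψ₂ : A[X] ⧸ I₂ →+* LaurentPolynomial A ⧸ I :=
        Ideal.Quotient.lift I₂ ((Ideal.Quotient.mk I).comp neg) (fun y hy => by
          obtain ⟨r, rfl⟩ := Ideal.mem_span_singleton.mp hy
          rw [RingHom.comp_apply, Ideal.Quotient.eq_zero_iff_mem, map_mul, neg_rel]
          exact Ideal.mul_mem_right _ _ (Ideal.mul_mem_left _ _ (Ideal.mem_span_singleton_self _)))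
      have hc₁ : ψ₁.comp φ₁ = φ := RingHom.ext fun y => congrArg (Ideal.Quotient.mk I) (Polynomial.toLaurent_C y)
      have hc₂ : ψ₂.comp φ₂ = φ := RingHom.ext fun y => congrArg (Ideal.Quotient.mk I) (neg_C y)
      have h12 : R (pieceMap U φ) := (hR _ _).2 (Or.inl ⟨θ U φ (ψ₁ (Ideal.Quotient.mk I₁ X)), by
        rw [pieceMap_appTop, pieceMap_appTop, ← map_mul]
        refine congrArg (θ U φ) ?_
        rw [← RingHom.congr_fun hc₁ a, ← RingHom.congr_fun hc₁ b]
        show ψ₁ (φ₁ a) * ψ₁ _ = ψ₁ (φ₁ b)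
        rw [← map_mul, r₁]⟩)
      have e1 := family_eq U hx _ h₁ _ h12 ((θ U φ).comp ψ₁)
        (RingHom.ext fun y => (congrArg (θ U φ) (RingHom.congr_fun hc₁ y)).trans (pieceMap_appTop U φ y).symm) n _ hz
      have e2 := family_eq U hx _ h₂ _ h12 ((θ U φ).comp ψ₂)
        (RingHom.ext fun y => (congrArg (θ U φ) (RingHom.congr_fun hc₂ y)).trans (pieceMap_appTop U φ y).symm) n _ hw
      exact Ideal.Quotient.eq.1 ((θ_bijective U φ).1 (e1.symm.trans e2))
    obtain ⟨c, hcP, hcQ⟩ := exists_const a b P Q hmem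
    refine ⟨c, fun W k hk => ?_⟩
    rcases (hR W k).1 hk with ⟨t, ht⟩ | ⟨t, ht⟩
    · let ρ : A[X] ⧸ I₁ →+* Γ(W.left, ⊤) := Ideal.Quotient.lift I₁ (Polynomial.eval₂RingHom k.left.appTop.hom t)
        (fun y hy => by
          obtain ⟨r, rfl⟩ := Ideal.mem_span_singleton.mp hy
          rw [map_mul]
          simp [ht])
      have hρ : ρ.comp φ₁ = k.left.appTop.hom := RingHom.ext fun y => Polynomial.eval₂_C _ _
      rw [family_eq U hx _ h₁ k hk ρ hρ n _ hz, ← Ideal.Quotient.eq.2 hcP]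
      exact (RingHom.congr_fun hρ c).symm
    · let ρ : A[X] ⧸ I₂ →+* Γ(W.left, ⊤) := Ideal.Quotient.lift I₂ (Polynomial.eval₂RingHom k.left.appTop.hom t)
        (fun y hy => by
          obtain ⟨r, rfl⟩ := Ideal.mem_span_singleton.mp hy
          rw [map_mul]
          simp [ht])
      have hρ : ρ.comp φ₂ = k.left.appTop.hom := RingHom.ext fun y => Polynomial.eval₂_C _ _
      rw [family_eq U hx _ h₂ k hk ρ hρ n _ hw, ← Ideal.Quotient.eq.2 hcQ]
      exact (RingHom.congr_fun hρ c).symm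

end Groth.L23.FrobLim

end
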