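import Groth.Agent.L23.Frob.Algebra
import Groth.Agent.L23.Frob.Colim
import Groth.Agent.L23.HCmp.Criterion
import Mathlib.CategoryTheory.Sites.LocallyBijective

/-!
# The Frobenius colimit of the structure sheaf is an h sheaf
-/

set_option autoImplicit false
set_option linter.style.haveILetI false
set_option linter.unusedSectionVars false
set_option backward.isDefEq.respectTransparency.types false
set_option backward.isDefEq.respectTransparency false

universe u

open CategoryTheory CategoryTheory.Limits AlgebraicGeometry Opposite TopologicalSpace HTop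

noncomputable section

namespace Groth.L23.Frob

variable (p : ℕ) (S : Scheme.{u})

/-- The presheaf in the larger universe. -/
abbrev P : (Over S)ᵒᵖ ⥤ Type (u + 1) := HTop.frobColimPresheaf p S ⋙ uliftFunctor.{u + 1, u}

/-- The big Zariski topology. -/
abbrev Jz : GrothendieckTopology (Over S) := QuotSh.J Scheme.zariskiPrecoverage S

/-- The Zariski sheafification. -/
abbrev G : (Over S)ᵒᵖ ⥤ Type (u + 1) := (Jz S).sheafify (P p S)

/-- The unit of sheafification. -/
abbrev η : P p S ⟶ G p S := (Jz S).toSheafify (P p S)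



variable {p S}

theorem map_up {X Y : Over S} (f : X ⟶ Y) (a : FrobColimSections p Y.left) :
    (P p S).map f.op ⟨a⟩ = ⟨FrobColimSections.map p f.left a⟩ := rfl

/-- A covering sieve of the big Zariski site contains an open around every point. -/
theorem exists_open_of_mem {T : Over S} {R : Sieve T} (hR : R ∈ Jz S T) (t : T.left) :
    ∃ U : T.left.Opens, t ∈ U ∧ R (Groth.L23.HCmp.openMor U.ι) := by
  obtain ⟨Y, g, y, hg, hP, rfl⟩ := (Groth.L27.Fppf.mem_grothendieck (P := @IsOpenImmersion)).1 hR t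
  haveI : IsOpenImmersion g.left := hP
  refine ⟨g.left.opensRange, ⟨y, rfl⟩, ?_⟩
  let e := IsOpenImmersion.isoOfRangeEq g.left.opensRange.ι g.left (by rw [Scheme.Opens.range_ι]; rfl)
  have he : e.hom ≫ g.left = g.left.opensRange.ι := IsOpenImmersion.isoOfRangeEq_hom_fac _ _ _
  let k : Over.mk (g.left.opensRange.ι ≫ T.hom) ⟶ Y := Over.homMk e.hom
    (show e.hom ≫ Y.hom = _ by rw [← Over.w g, ← Category.assoc, he]; rfl)
  exact (show k ≫ g = Groth.L23.HCmp.openMor g.left.opensRange.ι from Over.OverMorphism.ext he) ▸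
    R.downward_closed hg k

theorem exists_finite_opens {T : Over S} [CompactSpace T.left] {R : Sieve T} (hR : R ∈ Jz S T) :
    ∃ (ι : Type u) (_ : Finite ι) (U : ι → T.left.Opens), ⊤ ≤ iSup U ∧ (∀ i, IsAffineOpen (U i)) ∧
      ∀ i, R (Groth.L23.HCmp.openMor (U i).ι) := by
  choose U hU hRU using exists_open_of_mem hR
  have h : ∀ t, ∃ W : T.left.Opens, IsAffineOpen W ∧ t ∈ W ∧ W ≤ U t := fun t => by
    obtain ⟨W, hW, ht, hle⟩ := exists_isAffineOpen_mem_and_subset (X := T.left) (hU t)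
    exact ⟨W, hW, ht, hle⟩
  choose W hW htW hWU using h
  obtain ⟨t, ht⟩ := isCompact_univ.elim_finite_subcover (fun x => (W x : Set T.left)) (fun x => (W x).2)
    (fun x _ => Set.mem_iUnion.mpr ⟨x, htW x⟩)
  refine ⟨{x // x ∈ t}, inferInstance, fun x => W x.1, fun x _ => ?_, fun x => hW _, fun x => ?_⟩
  · obtain ⟨y, hy, hxy⟩ := Set.mem_iUnion₂.mp (ht (Set.mem_univ x))
    exact Opens.mem_iSup.mpr ⟨⟨y, hy⟩, hxy⟩
  · let k : Over.mk ((W x.1).ι ≫ T.hom) ⟶ Over.mk ((U x.1).ι ≫ T.hom) :=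
      Over.homMk (T.left.homOfLE (hWU x.1))
        (show T.left.homOfLE (hWU x.1) ≫ (U x.1).ι ≫ T.hom = _ by rw [Scheme.homOfLE_ι_assoc]; rfl)
    exact (show k ≫ Groth.L23.HCmp.openMor (U x.1).ι = Groth.L23.HCmp.openMor (W x.1).ι from
      Over.OverMorphism.ext (Scheme.homOfLE_ι T.left (hWU x.1))) ▸ R.downward_closed (hRU x.1) k

variable [hp : Fact p.Prime]

theorem η_injective (X : Over S) [CompactSpace X.left] : Function.Injective ((η p S).app (op X)) := by
  rintro ⟨x⟩ ⟨y⟩ h
  obtain ⟨ι, _, U, hU, -, hR⟩ := exists_finite_opens (Presheaf.equalizerSieve_mem (Jz S) (η p S) _ _ h)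
  exact congrArg ULift.up (eq_of_cover U hU fun i => congrArg ULift.down (hR i))

theorem η_bijective (X : Over S) [CompactSpace X.left] [QuasiSeparatedSpace X.left] :
    Function.Bijective ((η p S).app (op X)) := by
  refine ⟨η_injective X, fun s => ?_⟩
  obtain ⟨ι, _, U, hU, hA, hR⟩ := exists_finite_opens (Presheaf.imageSieve_mem (Jz S) (η p S) s)
  choose x hx using fun i => (hR i : ∃ t, (η p S).app _ t = (G p S).map (Groth.L23.HCmp.openMor (U i).ι).op s)
  obtain ⟨y, hy⟩ := exists_glue U hU (fun i => (x i).down) fun i j => by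
    let W : Over S := Over.mk ((U i ⊓ U j).ι ≫ X.hom)
    haveI : CompactSpace W.left := isCompact_iff_compactSpace.1
      (QuasiSeparatedSpace.inter_isCompact _ _ (U i).2 (hA i).isCompact (U j).2 (hA j).isCompact)
    let ki : W ⟶ Over.mk ((U i).ι ≫ X.hom) := Over.homMk (X.left.homOfLE inf_le_left)
      (show X.left.homOfLE _ ≫ (U i).ι ≫ X.hom = _ by rw [Scheme.homOfLE_ι_assoc]; rfl)
    let kj : W ⟶ Over.mk ((U j).ι ≫ X.hom) := Over.homMk (X.left.homOfLE inf_le_right)
      (show X.left.homOfLE _ ≫ (U j).ι ≫ X.hom = _ by rw [Scheme.homOfLE_ι_assoc]; rfl)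
    refine congrArg ULift.down (η_injective W (a₁ := (P p S).map ki.op (x i)) (a₂ := (P p S).map kj.op (x j)) ?_)
    rw [NatTrans.naturality_apply, NatTrans.naturality_apply, hx, hx, ← Functor.map_comp_apply,
      ← Functor.map_comp_apply, ← op_comp, ← op_comp]
    have e : ki ≫ Groth.L23.HCmp.openMor (U i).ι = kj ≫ Groth.L23.HCmp.openMor (U j).ι :=
      Over.OverMorphism.ext ((Scheme.homOfLE_ι X.left inf_le_left).trans (Scheme.homOfLE_ι X.left inf_le_right).symm)
    rw [e]
  refine ⟨⟨y⟩, ?_⟩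
  have hsh : Presieve.IsSheaf (Jz S) (G p S) :=
    (isSheaf_iff_isSheaf_of_type _ _).1 ((Jz S).sheafify_isSheaf (P p S))
  let R : Presieve X := Presieve.ofArrows (fun i => Over.mk ((U i).ι ≫ X.hom)) fun i =>
    Groth.L23.HCmp.openMor (U i).ι
  have hmem : Sieve.generate R ∈ Jz S X := Groth.L23.HCmp.mem_zariski_over fun t => by
    obtain ⟨i, hi⟩ := Opens.mem_iSup.mp (hU (show t ∈ (⊤ : X.left.Opens) from trivial))
    exact ⟨U i, hi, ⟨_, 𝟙 _, _, ⟨i⟩, Category.id_comp _⟩⟩
  refine ((Presieve.isSheafFor_iff_generate R).2 (hsh _ hmem)).isSeparatedFor.ext ?_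
  rintro _ _ ⟨i⟩
  rw [← NatTrans.naturality_apply, ← hx i]
  congr 1
  exact congrArg ULift.up (hy i)

theorem isSheaf_zariski : Presieve.IsSheaf (Scheme.zariskiTopology.over S) (G p S) :=
  (isSheaf_iff_isSheaf_of_type _ _).1 ((Jz S).sheafify_isSheaf (P p S))

set_option maxHeartbeats 800000 in
theorem isSheafFor_proper (hS : (p : Γ(S, ⊤)) = 0) (U V : Over S) (f : V ⟶ U) [IsAffine U.left]
    [IsProper f.left] [Surjective f.left] : Presieve.IsSheafFor (G p S) (Presieve.singleton f) := by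
  have hpU : (p : Γ(U.left, ⊤)) = 0 := natCast_eq_zero U.hom hS
  have hpV : (p : Γ(V.left, ⊤)) = 0 := natCast_eq_zero V.hom hS
  haveI : CompactSpace V.left := QuasiCompact.compactSpace_of_compactSpace f.left
  haveI : QuasiSeparatedSpace V.left := quasiSeparatedSpace_of_quasiSeparated f.left
  let W : Over S := Over.mk (pullback.fst f.left f.left ≫ V.hom)
  haveI : CompactSpace W.left := QuasiCompact.compactSpace_of_compactSpace (pullback.fst f.left f.left)
  have hpW : (p : Γ(W.left, ⊤)) = 0 := natCast_eq_zero W.hom hS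
  let q₁ : W ⟶ V := Over.homMk (pullback.fst f.left f.left) rfl
  let q₂ : W ⟶ V := Over.homMk (pullback.snd f.left f.left)
    (show pullback.snd f.left f.left ≫ V.hom = pullback.fst f.left f.left ≫ V.hom by
      rw [← Over.w f, ← Category.assoc, ← pullback.condition, Category.assoc])
  have hq : q₁ ≫ f = q₂ ≫ f := Over.OverMorphism.ext pullback.condition
  intro x hx
  obtain ⟨⟨x'⟩, hx'⟩ := (η_bijective (p := p) V).2 (x f (Presieve.singleton_self f))
  obtain ⟨n, b, rfl⟩ := exists_rep x'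
  have hW : (η p S).app (op W) ((P p S).map q₁.op ⟨FrobColimSections.mk p n b⟩) =
      (η p S).app (op W) ((P p S).map q₂.op ⟨FrobColimSections.mk p n b⟩) := by
    rw [NatTrans.naturality_apply, NatTrans.naturality_apply, hx']
    exact hx q₁ q₂ (Presieve.singleton_self f) (Presieve.singleton_self f) hq
  have hW' := congrArg ULift.down (η_injective W hW)
  obtain ⟨k, hk⟩ := (mk_eq_iff' hp.out.ne_zero).1 hW'
  obtain ⟨m, a, ha⟩ := exists_pow_mem_range_appTop f.left p hp.out hpU b (isNilpotent_sub_of_pow_eq hpW hk)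
  refine ⟨(η p S).app (op U) ⟨FrobColimSections.mk p (n + m) a⟩, ?_, fun y hy => ?_⟩
  · rintro _ _ ⟨⟩
    rw [← NatTrans.naturality_apply, ← hx']
    congr 1
    refine congrArg ULift.up ?_
    rw [mk_add n m b, ← ha]
    rfl
  · obtain ⟨⟨y'⟩, rfl⟩ := (η_bijective (p := p) U).2 y
    obtain ⟨n', a', rfl⟩ := exists_rep y'
    have h1 := hy f (Presieve.singleton_self f)
    rw [← NatTrans.naturality_apply, ← hx'] at h1
    have h2 := congrArg ULift.down (η_injective V h1)
    change FrobColimSections.mk p n' (f.left.appTop a') = FrobColimSections.mk p n b at h2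
    rw [mk_add n m b, ← ha] at h2
    obtain ⟨k₁, k₂, e₁, e₂⟩ := mk_eq_iff.1 h2
    rw [← map_pow, ← map_pow] at e₂
    have hnil : IsNilpotent (a' ^ (p ^ k₁) - a ^ (p ^ k₂)) := by
      rw [Scheme.isNilpotent_iff_basicOpen_eq_bot]
      refine le_bot_iff.mp fun u hu => ?_
      obtain ⟨v, rfl⟩ := f.left.surjective u
      have hv : v ∈ f.left ⁻¹ᵁ U.left.basicOpen (a' ^ (p ^ k₁) - a ^ (p ^ k₂)) := hu
      rw [Scheme.preimage_basicOpen_top, map_sub, e₂, sub_self, Scheme.basicOpen_zero] at hv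
      exact hv
    obtain ⟨j, hj⟩ := exists_pow_eq_of_isNilpotent hpU hnil
    congr 1
    refine congrArg ULift.up (mk_eq_iff.2 ⟨k₁ + j, k₂ + j, by omega, ?_⟩)
    rw [pow_add, pow_mul, hj, ← pow_mul, ← pow_add]

theorem isSheaf_Jh (hS : (p : Γ(S, ⊤)) = 0) : Presheaf.IsSheaf (HTop.Jh S) (G p S) := by
  rw [isSheaf_iff_isSheaf_of_type, Groth.L23.HCmp.isSheaf_Jh_iff]
  exact ⟨isSheaf_zariski, fun U V f _ _ _ _ => isSheafFor_proper hS U V f⟩

end Groth.L23.Frob

end
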